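import Groth.Agent.VBCurve.K553.SubDefs
import Groth.Agent.Dcoh.MonPull3_292
import Groth.Agent.Pic13.H945.IdealPull

/-!
# SUB-D: pullback and symmetry of the modules `D a b`, `tw N l y`
-/

set_option autoImplicit false
universe u
open CategoryTheory CategoryTheory.Limits AlgebraicGeometry MonoidalCategory

namespace K471.SubD

open scoped Groth.Agent.Dcoh.MonCat Groth.Agent.Dcoh.MonPull
open Groth.Agent.Dcoh.MonPull Groth.Agent.Krr.H482.PullTens

section Unit

variable {X Y Z : Scheme.{u}}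

theorem pullUnitIso_hom (f : X ⟶ Y) :
    (pullUnitIso f).hom = Functor.OplaxMonoidal.η (Scheme.Modules.pullback f) :=
  (η_pullback f).symm

/-- The unit isomorphisms are compatible with composition. -/
theorem pullbackComp_unit (f : X ⟶ Y) (g : Y ⟶ Z) :
    (Scheme.Modules.pullbackComp f g).hom.app (Coh.structureModule Z) ≫ (pullUnitIso (f ≫ g)).hom =
      (Scheme.Modules.pullback f).map (pullUnitIso g).hom ≫ (pullUnitIso f).hom := by
  rw [← cancel_epi ((Scheme.Modules.pullbackComp f g).inv.app (Coh.structureModule Z)), Iso.inv_hom_id_app_assoc]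
  refine pb_ext (f ≫ g) _ _ fun V r => ?_
  rw [Groth.Agent.Dcoh.MonTm.comp_ap, Groth.Agent.Dcoh.MonTm.comp_ap, pullbackComp_inv_pb, pullUnitIso_hom,
    pullUnitIso_hom, pullUnitIso_hom]
  have h1 := η_pb' (f ≫ g) (V := V) r
  have h2 := congrArg ((Functor.OplaxMonoidal.η (Scheme.Modules.pullback f)).app (f ⁻¹ᵁ g ⁻¹ᵁ V))
    (map_pb f (V := g ⁻¹ᵁ V) (Functor.OplaxMonoidal.η (Scheme.Modules.pullback g)) (pb g r))
  have h3 := η_pb' g (V := V) r
  have h4 := η_pb' f (V := g ⁻¹ᵁ V) ((Functor.OplaxMonoidal.η (Scheme.Modules.pullback g)).app (g ⁻¹ᵁ V) (pb g r))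
  refine h1.trans (Eq.trans ?_ (h2.trans h4).symm)
  rw [h3]
  rfl

/-- Pulling back a morphism to the unit in two steps. -/
theorem comp_toUnit {U T P : Scheme.{u}} (f : U ⟶ T) (p : T ⟶ P) (q : U ⟶ P) (h : f ≫ p = q)
    {M : P.Modules} (t : M ⟶ Coh.structureModule P) :
    (((Scheme.Modules.pullbackComp f p).app M) ≪≫ (Scheme.Modules.pullbackCongr h).app M).hom ≫
        (Scheme.Modules.pullback q).map t ≫ (pullUnitIso q).hom =
      (Scheme.Modules.pullback f).map ((Scheme.Modules.pullback p).map t ≫ (pullUnitIso p).hom) ≫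
        (pullUnitIso f).hom := by
  subst h
  have h1 := (Scheme.Modules.pullbackComp f p).hom.naturality t
  have h2 := pullbackComp_unit f p
  have h3 : ((Scheme.Modules.pullbackCongr (rfl : f ≫ p = f ≫ p)).app M).hom = 𝟙 _ := rfl
  rw [Iso.trans_hom, h3, Category.comp_id, Functor.map_comp, Category.assoc, ← h2]
  exact (Category.assoc _ _ _).symm.trans ((congrArg (· ≫ _) h1.symm).trans (Category.assoc _ _ _))

end Unit

section Tensor

theorem tensor_unitor {D : Type*} [Category D] [MonoidalCategory D] {A A' B B' : D} (d : A ⟶ A')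
    (t : A' ⟶ 𝟙_ D) (e : B ⟶ B') :
    (d ⊗ₘ e) ≫ t ▷ B' ≫ (λ_ B').hom = (d ≫ t) ▷ B ≫ (λ_ B).hom ≫ e := by
  rw [← leftUnitor_naturality, tensorHom_def, comp_whiskerRight, Category.assoc, Category.assoc,
    whisker_exchange_assoc]

variable {X Y : Scheme.{u}} (f : X ⟶ Y)

/-- Pulling back `(t ⊗ 𝟙) ≫ λ`. -/
theorem map_unitor {A B : Y.Modules} (t : A ⟶ Coh.structureModule Y) :
    (Scheme.Modules.pullback f).map ((t ▷ B : A ⊗ B ⟶ 𝟙_ Y.Modules ⊗ B) ≫ (λ_ B).hom) =
      Functor.OplaxMonoidal.δ (Scheme.Modules.pullback f) A B ≫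
        (((Scheme.Modules.pullback f).map t ≫ (pullUnitIso f).hom) ▷ (Scheme.Modules.pullback f).obj B :
          (Scheme.Modules.pullback f).obj A ⊗ (Scheme.Modules.pullback f).obj B ⟶
            𝟙_ X.Modules ⊗ (Scheme.Modules.pullback f).obj B) ≫
        (λ_ ((Scheme.Modules.pullback f).obj B)).hom := by
  rw [Functor.map_comp, pullUnitIso_hom, comp_whiskerRight, Category.assoc]
  have h1 := Functor.OplaxMonoidal.δ_natural_left (F := Scheme.Modules.pullback f) t B
  have h2 := Functor.OplaxMonoidal.left_unitality_hom (Scheme.Modules.pullback f) B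
  rw [← h2]
  exact (Category.assoc _ _ _).symm.trans ((congrArg (· ≫ _) h1.symm).trans (Category.assoc _ _ _))

end Tensor

section Involution

/-- The ideal of a subscheme which is stable under an involution is stable under the involution. -/
theorem comap_ker_of_involution {X Z : Scheme.{u}} (δ : Z ⟶ X) (σ : X ⟶ X) (h : σ ≫ σ = 𝟙 X)
    (hδ : δ ≫ σ = δ) : δ.ker.comap σ = δ.ker := by
  have h1 : δ.ker.map σ = δ.ker := by rw [Scheme.IdealSheafData.map_ker, hδ]
  have h2 : δ.ker.comap σ ≤ δ.ker := Scheme.IdealSheafData.le_map_iff_comap_le.1 h1.ge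
  refine le_antisymm h2 ?_
  have h3 := Scheme.IdealSheafData.comap_mono σ h2
  change (δ.ker.comap σ).comap σ ≤ δ.ker.comap σ at h3
  rw [← Scheme.IdealSheafData.comap_comp, h, Scheme.IdealSheafData.comap_id] at h3
  exact h3

theorem nonempty_pull_idealMod_of_involution {X Z : Scheme.{u}} (δ : Z ⟶ X) (σ : X ⟶ X) (h : σ ≫ σ = 𝟙 X)
    (hδ : δ ≫ σ = δ) :
    Nonempty ((Scheme.Modules.pullback σ).obj (ClSub.idealMod δ.ker) ≅ ClSub.idealMod δ.ker) := by
  have hσ : IsIso σ := ⟨σ, h, h⟩
  have h1 := Groth.Agent.Pic13.H945.IdealPull.isIso_theta_of_flat σ δ.ker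
  have e : ClSub.idealMod (δ.ker.comap σ) ≅ ClSub.idealMod δ.ker :=
    eqToIso (by rw [comap_ker_of_involution δ σ h hδ])
  exact ⟨asIso (Groth.Agent.Pic13.H945.IdealPull.theta σ δ.ker) ≪≫ e⟩

end Involution

end K471.SubD

namespace K553.Sub

open K471.SubD
open scoped Groth.Agent.Dcoh.MonCat Groth.Agent.Dcoh.MonPull
open Groth.Agent.Krr.H482.PullTens

variable {S : Scheme.{u}} {C : Over S}

theorem pair_comp {T U : Over S} (f : U ⟶ T) (a b : T ⟶ C) :
    f.left ≫ pair a b = pair (f ≫ a) (f ≫ b) := by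
  apply pullback.hom_ext
  · rw [pair, pair, Category.assoc, pullback.lift_fst, pullback.lift_fst]
    rfl
  · rw [pair, pair, Category.assoc, pullback.lift_snd, pullback.lift_snd]
    rfl

theorem nonempty_D_pull {T U : Over S} (f : U ⟶ T) (a b : T ⟶ C) :
    ∃ e : (Scheme.Modules.pullback f.left).obj (D a b) ≅ D (f ≫ a) (f ≫ b),
      e.hom ≫ Dι (f ≫ a) (f ≫ b) =
        (Scheme.Modules.pullback f.left).map (Dι a b) ≫ (Groth.Agent.Krr.H482.PullTens.pullUnitIso f.left).hom :=
  ⟨(Scheme.Modules.pullbackComp f.left (pair a b)).app (diagMod C) ≪≫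
      (Scheme.Modules.pullbackCongr (pair_comp f a b)).app (diagMod C),
    comp_toUnit f.left (pair a b) (pair (f ≫ a) (f ≫ b)) (pair_comp f a b)
      (ClSub.idealModι (pullback.diagonal C.hom).ker)⟩

theorem nonempty_tw_pull {T U : Over S} (f : U ⟶ T) (N : C.left.Modules) (l : List (T ⟶ C)) (y : T ⟶ C) :
    ∃ e : (Scheme.Modules.pullback f.left).obj (tw N l y) ≅ tw N (l.map fun z => f ≫ z) (f ≫ y),
      e.hom ≫ twι N (l.map fun z => f ≫ z) (f ≫ y) =
        (Scheme.Modules.pullback f.left).map (twι N l y) ≫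
          (Scheme.Modules.pullbackComp f.left y.left).hom.app N := by
  induction l with
  | nil =>
    refine ⟨(Scheme.Modules.pullbackComp f.left y.left).app N, ?_⟩
    change ((Scheme.Modules.pullbackComp f.left y.left).app N).hom ≫ 𝟙 _ =
      (Scheme.Modules.pullback f.left).map (𝟙 _) ≫ _
    rw [Category.comp_id, CategoryTheory.Functor.map_id, Category.id_comp]
    rfl
  | cons z l ih =>
    obtain ⟨e, he⟩ := ih
    obtain ⟨d, hd⟩ := nonempty_D_pull f z y
    let δi : (Scheme.Modules.pullback f.left).obj (D z y ⊗ tw N l y) ≅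
        (Scheme.Modules.pullback f.left).obj (D z y) ⊗ (Scheme.Modules.pullback f.left).obj (tw N l y) :=
      (Functor.Monoidal.μIso (Scheme.Modules.pullback f.left) (D z y) (tw N l y)).symm
    let E : (Scheme.Modules.pullback f.left).obj (tw N (z :: l) y) ≅
        tw N ((z :: l).map fun z => f ≫ z) (f ≫ y) := δi ≪≫ (d ⊗ᵢ e)
    refine ⟨E, ?_⟩
    let l' := l.map fun z => f ≫ z
    change (Functor.OplaxMonoidal.δ (Scheme.Modules.pullback f.left) (D z y) (tw N l y) ≫ (d.hom ⊗ₘ e.hom)) ≫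
      ((Dι (f ≫ z) (f ≫ y) ▷ tw N l' (f ≫ y) :
        D (f ≫ z) (f ≫ y) ⊗ tw N l' (f ≫ y) ⟶ 𝟙_ U.left.Modules ⊗ tw N l' (f ≫ y)) ≫
        (λ_ (tw N l' (f ≫ y))).hom) ≫ twι N l' (f ≫ y) =
      (Scheme.Modules.pullback f.left).map (((Dι z y ▷ tw N l y : D z y ⊗ tw N l y ⟶
        𝟙_ T.left.Modules ⊗ tw N l y) ≫ (λ_ (tw N l y)).hom) ≫ twι N l y) ≫ _
    rw [Functor.map_comp, map_unitor, ← hd]
    have h1 := tensor_unitor (D := U.left.Modules) d.hom (Dι (f ≫ z) (f ≫ y)) e.hom
    simp only [Category.assoc]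
    rw [← he]
    have h2 := congrArg (fun t => Functor.OplaxMonoidal.δ (Scheme.Modules.pullback f.left) (D z y) (tw N l y) ≫
      t ≫ twι N l' (f ≫ y)) h1
    simp only [Category.assoc] at h2
    exact h2

/-- The swap of the two factors. -/
noncomputable def swp (C : Over S) : pullback C.hom C.hom ⟶ pullback C.hom C.hom :=
  pullback.lift (pullback.snd _ _) (pullback.fst _ _) pullback.condition.symm

theorem swp_swp (C : Over S) : swp C ≫ swp C = 𝟙 _ := by
  apply pullback.hom_ext
  · rw [swp, Category.assoc, pullback.lift_fst, pullback.lift_snd, Category.id_comp]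
  · rw [swp, Category.assoc, pullback.lift_snd, pullback.lift_fst, Category.id_comp]

theorem diagonal_swp (C : Over S) : pullback.diagonal C.hom ≫ swp C = pullback.diagonal C.hom := by
  apply pullback.hom_ext
  · rw [swp, Category.assoc, pullback.lift_fst, pullback.diagonal_snd, pullback.diagonal_fst]
  · rw [swp, Category.assoc, pullback.lift_snd, pullback.diagonal_snd, pullback.diagonal_fst]

theorem pair_swp {T : Over S} (a b : T ⟶ C) : pair a b ≫ swp C = pair b a := by
  apply pullback.hom_ext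
  · rw [swp, pair, pair, Category.assoc, pullback.lift_fst, pullback.lift_snd, pullback.lift_fst]
  · rw [swp, pair, pair, Category.assoc, pullback.lift_snd, pullback.lift_snd, pullback.lift_fst]

theorem nonempty_D_symm {T : Over S} (a b : T ⟶ C) : Nonempty (D a b ≅ D b a) := by
  obtain ⟨e⟩ := nonempty_pull_idealMod_of_involution (pullback.diagonal C.hom) (swp C) (swp_swp C)
    (diagonal_swp C)
  exact ⟨(Scheme.Modules.pullback (pair a b)).mapIso e.symm ≪≫
    (Scheme.Modules.pullbackComp (pair a b) (swp C)).app (diagMod C) ≪≫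
      (Scheme.Modules.pullbackCongr (pair_swp a b)).app (diagMod C)⟩

end K553.Sub
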